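import Groth.Agent.EGA4Lib.CplFlat
import Groth.Agent.RegLoc.CompleteTrans
import Groth.Agent.CAlg48.PSEval
import Groth.Agent.PSLoc.Basic
import Groth.Agent.ArtFunLib.PowerSeries

/-!
# The completion of a local algebra with two cotangent generators whose product dies modulo the base
-/

set_option autoImplicit false
set_option linter.style.haveILetI false

universe u

open IsLocalRing

namespace Groth.Agent.NodeCompl

section Approx

variable {A B : Type u} [CommRing A] [CommRing B] [IsLocalRing A] [IsLocalRing B]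
  [IsNoetherianRing A] [IsNoetherianRing B] [Algebra A B] [IsLocalHom (algebraMap A B)]

local notation "Â" => AdicCompletion (maximalIdeal A) A
local notation "B̂" => AdicCompletion (maximalIdeal B) B

/-- `𝔪_A B̂`. -/
noncomputable abbrev baseIdeal (A B : Type u) [CommRing A] [CommRing B] [IsLocalRing A] [IsLocalRing B]
    [Algebra A B] : Ideal (AdicCompletion (maximalIdeal B) B) :=
  (maximalIdeal A).map (algebraMap A (AdicCompletion (maximalIdeal B) B))

theorem maximalIdeal_cpl_eq (u v : B) (U V : B̂)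
    (hgen : maximalIdeal B = Ideal.span {u, v} ⊔ (maximalIdeal A).map (algebraMap A B))
    (hU : U - algebraMap B B̂ u ∈ baseIdeal A B) (hV : V - algebraMap B B̂ v ∈ baseIdeal A B) :
    maximalIdeal B̂ = Ideal.span {U, V} ⊔ baseIdeal A B := by
  have h1 : maximalIdeal B̂ = Ideal.span {algebraMap B B̂ u, algebraMap B B̂ v} ⊔ baseIdeal A B := by
    rw [AdicCompletion.maximalIdeal_eq_map (R := B)]
    refine (congrArg (Ideal.map (algebraMap B B̂)) hgen).trans ?_
    rw [Ideal.map_sup, Ideal.map_span,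
      Set.image_pair, Ideal.map_map, ← IsScalarTower.algebraMap_eq]
  rw [h1]
  have hmem : ∀ x y : B̂, x - y ∈ baseIdeal A B → ∀ S : Set B̂, y ∈ S →
      x ∈ Ideal.span S ⊔ baseIdeal A B := fun x y h S hy => by
    rw [← sub_add_cancel x y]
    exact add_mem (Ideal.mem_sup_right h) (Ideal.mem_sup_left (Ideal.subset_span hy))
  refine le_antisymm (sup_le ?_ le_sup_right) (sup_le ?_ le_sup_right) <;>
    rw [Ideal.span_le] <;> rintro _ (rfl | rfl)
  · exact hmem _ U (by simpa using neg_mem hU) _ (Or.inl rfl)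
  · exact hmem _ V (by simpa using neg_mem hV) _ (Or.inr rfl)
  · exact hmem _ _ hU _ (Or.inl rfl)
  · exact hmem _ _ hV _ (Or.inr rfl)

variable (hres : Function.Bijective (IsLocalRing.ResidueField.map (algebraMap A B)))
include hres

theorem exists_sub_mem_maximalIdeal (b : B̂) : ∃ a : A, b - algebraMap A B̂ a ∈ maximalIdeal B̂ := by
  obtain ⟨b₀, hb₀⟩ := Submodule.mkQ_surjective _ (AdicCompletion.eval (maximalIdeal B) B 1 b)
  have h1 : b - algebraMap B B̂ b₀ ∈ maximalIdeal B̂ := by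
    have hk : b - algebraMap B B̂ b₀ ∈ (maximalIdeal B ^ 1 • ⊤ : Submodule B B̂) := by
      rw [AdicCompletion.pow_smul_top_eq_ker_eval (IsNoetherian.noetherian _), LinearMap.mem_ker,
        map_sub, sub_eq_zero, ← hb₀]
      rfl
    rw [Ideal.smul_top_eq_map, Submodule.restrictScalars_mem, pow_one,
      ← AdicCompletion.maximalIdeal_eq_map] at hk
    exact hk
  obtain ⟨r, hr⟩ := hres.2 (residue B b₀)
  obtain ⟨a, rfl⟩ := residue_surjective r
  refine ⟨a, ?_⟩
  rw [IsScalarTower.algebraMap_apply A B B̂, ← sub_add_sub_cancel b (algebraMap B B̂ b₀), ← map_sub]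
  refine add_mem h1 ?_
  rw [AdicCompletion.maximalIdeal_eq_map (R := B)]
  refine Ideal.mem_map_of_mem _ ?_
  rw [IsLocalRing.ResidueField.map_residue] at hr
  exact Ideal.Quotient.eq.mp hr.symm

theorem exists_decomp (u v : B) (U V : B̂)
    (hgen : maximalIdeal B = Ideal.span {u, v} ⊔ (maximalIdeal A).map (algebraMap A B))
    (hU : U - algebraMap B B̂ u ∈ baseIdeal A B) (hV : V - algebraMap B B̂ v ∈ baseIdeal A B)
    (k : ℕ) {e : B̂} (he : e ∈ baseIdeal A B ^ k) :
    ∃ a ∈ maximalIdeal A ^ k, ∃ x ∈ baseIdeal A B ^ k, ∃ y ∈ baseIdeal A B ^ k,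
      e - (algebraMap A B̂ a + U * x + V * y) ∈ baseIdeal A B ^ (k + 1) := by
  have hb : ∀ b : B̂, ∃ (a : A) (p q : B̂),
      b - (algebraMap A B̂ a + U * p + V * q) ∈ baseIdeal A B := fun b => by
    obtain ⟨a, ha⟩ := exists_sub_mem_maximalIdeal hres b
    rw [maximalIdeal_cpl_eq u v U V hgen hU hV, Submodule.mem_sup] at ha
    obtain ⟨s, hs, t, ht, hst⟩ := ha
    obtain ⟨p, q, rfl⟩ := Ideal.mem_span_pair.mp hs
    exact ⟨a, p, q, by convert ht using 1; linear_combination -hst⟩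
  rw [baseIdeal, ← Ideal.map_pow] at he
  induction he using Submodule.span_induction with
  | mem x hx =>
    obtain ⟨a, ha, rfl⟩ := hx
    exact ⟨a, ha, 0, zero_mem _, 0, zero_mem _, by simp⟩
  | zero => exact ⟨0, zero_mem _, 0, zero_mem _, 0, zero_mem _, by simp⟩
  | add e₁ e₂ _ _ h₁ h₂ =>
    obtain ⟨a₁, ha₁, x₁, hx₁, y₁, hy₁, h₁⟩ := h₁
    obtain ⟨a₂, ha₂, x₂, hx₂, y₂, hy₂, h₂⟩ := h₂
    refine ⟨a₁ + a₂, add_mem ha₁ ha₂, x₁ + x₂, add_mem hx₁ hx₂, y₁ + y₂, add_mem hy₁ hy₂, ?_⟩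
    convert add_mem h₁ h₂ using 1
    rw [map_add]; ring
  | smul b e _ h =>
    obtain ⟨a, ha, x, hx, y, hy, h⟩ := h
    obtain ⟨a₀, p, q, hpq⟩ := hb b
    have ha' : algebraMap A B̂ a ∈ baseIdeal A B ^ k := by
      rw [baseIdeal, ← Ideal.map_pow]; exact Ideal.mem_map_of_mem _ ha
    refine ⟨a₀ * a, Ideal.mul_mem_left _ _ ha, b * x + p * algebraMap A B̂ a,
      add_mem (Ideal.mul_mem_left _ _ hx) (Ideal.mul_mem_left _ _ ha'), b * y + q * algebraMap A B̂ a,
      add_mem (Ideal.mul_mem_left _ _ hy) (Ideal.mul_mem_left _ _ ha'), ?_⟩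
    have h3 : algebraMap A B̂ a * (b - (algebraMap A B̂ a₀ + U * p + V * q)) ∈ baseIdeal A B ^ (k + 1) := by
      rw [pow_succ]; exact Ideal.mul_mem_mul ha' hpq
    convert add_mem (Ideal.mul_mem_left _ b h) h3 using 1
    rw [map_mul, smul_eq_mul]; ring

theorem exists_limits (u v : B) (huv : u * v ∈ (maximalIdeal A).map (algebraMap A B))
    (hgen : maximalIdeal B = Ideal.span {u, v} ⊔ (maximalIdeal A).map (algebraMap A B))
    (φ : Â →ₐ[A] B̂) :
    ∃ α ∈ (maximalIdeal A).map (algebraMap A Â), ∃ U V : B̂,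
      U - algebraMap B B̂ u ∈ baseIdeal A B ∧ V - algebraMap B B̂ v ∈ baseIdeal A B ∧
        U * V = φ α := by
  classical
  set M := baseIdeal A B with hM
  haveI : IsNoetherianRing B̂ := RegLoc.Completion.isNoetherianRing_adicCompletion' _
  haveI : IsAdicComplete M B̂ := RegLoc.CompleteTrans.isAdicComplete_of_le
    (K := maximalIdeal B̂) (EGA4Lib.map_maximalIdeal_cpl_le A B)
  let P : ℕ → A × B̂ × B̂ → Prop := fun k s => s.1 ∈ maximalIdeal A ∧
    s.2.1 - algebraMap B B̂ u ∈ M ∧ s.2.2 - algebraMap B B̂ v ∈ M ∧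
    s.2.1 * s.2.2 - algebraMap A B̂ s.1 ∈ M ^ (k + 1)
  have h0 : P 0 (0, algebraMap B B̂ u, algebraMap B B̂ v) := by
    refine ⟨zero_mem _, by simp, by simp, ?_⟩
    rw [map_zero, sub_zero, ← map_mul, zero_add, pow_one, hM, baseIdeal,
      IsScalarTower.algebraMap_eq A B B̂, ← Ideal.map_map]
    exact Ideal.mem_map_of_mem _ huv
  have hstep : ∀ k s, P k s → ∃ s', P (k + 1) s' ∧ s'.1 - s.1 ∈ maximalIdeal A ^ (k + 1) ∧
      s'.2.1 - s.2.1 ∈ M ^ (k + 1) ∧ s'.2.2 - s.2.2 ∈ M ^ (k + 1) := by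
    rintro k ⟨α, U, V⟩ ⟨hα, hU, hV, he⟩
    obtain ⟨a, ha, x, hx, y, hy, h⟩ := exists_decomp hres u v U V hgen hU hV (k + 1) he
    refine ⟨(α + a, U - y, V - x), ⟨add_mem hα (Ideal.pow_le_self k.succ_ne_zero ha), ?_, ?_, ?_⟩,
      by simpa using ha, by simpa using neg_mem hy, by simpa using neg_mem hx⟩
    · simpa [sub_right_comm] using sub_mem hU (Ideal.pow_le_self k.succ_ne_zero hy)
    · simpa [sub_right_comm] using sub_mem hV (Ideal.pow_le_self k.succ_ne_zero hx)
    · have hxy : x * y ∈ M ^ (k + 1 + 1) :=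
        Ideal.pow_le_pow_right (show k + 1 + 1 ≤ k + 1 + (k + 1) by omega)
          (by rw [pow_add]; exact Ideal.mul_mem_mul hx hy)
      convert add_mem h hxy using 1
      simp only [map_add]; ring
  let next : ∀ k, {s // P k s} → {s // P (k + 1) s} := fun k s =>
    ⟨(hstep k s.1 s.2).choose, (hstep k s.1 s.2).choose_spec.1⟩
  let f : ∀ k, {s // P k s} := fun k => Nat.rec ⟨_, h0⟩ next k
  have hd : ∀ k, (f (k + 1)).1.1 - (f k).1.1 ∈ maximalIdeal A ^ (k + 1) ∧
      (f (k + 1)).1.2.1 - (f k).1.2.1 ∈ M ^ (k + 1) ∧ (f (k + 1)).1.2.2 - (f k).1.2.2 ∈ M ^ (k + 1) :=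
    fun k => (hstep k (f k).1 (f k).2).choose_spec.2
  have hlim : ∀ (R : Type u) [CommRing R] (K : Ideal R) [IsAdicComplete K R] (g : ℕ → R),
      (∀ k, g (k + 1) - g k ∈ K ^ (k + 1)) → ∃ L, ∀ n, g n - L ∈ K ^ n := by
    intro R _ K _ g hg
    obtain ⟨L, hL⟩ := IsPrecomplete.prec (I := K) inferInstance (f := g) (fun {m n} hmn => by
      rw [SModEq.sub_mem, smul_eq_mul, Ideal.mul_top]
      induction n, hmn using Nat.le_induction with
      | base => simp
      | succ n hmn ih =>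
        rw [← sub_sub_sub_cancel_right (g m) (g (n + 1)) (g n)]
        exact sub_mem ih (Ideal.pow_le_pow_right (by omega) (hg n)))
    refine ⟨L, fun n => ?_⟩
    simpa [SModEq.sub_mem, smul_eq_mul, Ideal.mul_top] using hL n
  obtain ⟨U, hU⟩ := hlim B̂ M (fun k => (f k).1.2.1) (fun k => (hd k).2.1)
  obtain ⟨V, hV⟩ := hlim B̂ M (fun k => (f k).1.2.2) (fun k => (hd k).2.2)
  obtain ⟨α, hα⟩ := hlim Â (maximalIdeal Â) (fun k => algebraMap A Â (f k).1.1) (fun k => by
    rw [← map_sub, AdicCompletion.maximalIdeal_eq_map (R := A), ← Ideal.map_pow]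
    exact Ideal.mem_map_of_mem _ (hd k).1)
  refine ⟨α, ?_, U, V, ?_, ?_, ?_⟩
  · have h1 := hα 1
    rw [pow_one, AdicCompletion.maximalIdeal_eq_map (R := A)] at h1
    have h2 := sub_mem (Ideal.mem_map_of_mem (algebraMap A Â) (f 1).2.1) h1
    simpa using h2
  · have h1 := hU 1
    rw [pow_one] at h1
    simpa using sub_mem (f 1).2.2.1 h1
  · have h1 := hV 1
    rw [pow_one] at h1
    simpa using sub_mem (f 1).2.2.2.1 h1
  · refine (IsHausdorff.eq_iff_smodEq (I := M)).2 fun n => ?_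
    rw [SModEq.sub_mem, smul_eq_mul, Ideal.mul_top]
    have hφ : φ α - algebraMap A B̂ (f n).1.1 ∈ M ^ n := by
      have h1 := Ideal.mem_map_of_mem (φ : Â →+* B̂) (hα n)
      rw [AdicCompletion.maximalIdeal_eq_map (R := A), ← Ideal.map_pow, Ideal.map_map,
        φ.comp_algebraMap, Ideal.map_pow, RingHom.coe_coe, map_sub, φ.commutes] at h1
      rw [← neg_sub]; exact neg_mem h1
    have he : (f n).1.2.1 * (f n).1.2.2 - algebraMap A B̂ (f n).1.1 ∈ M ^ n :=
      Ideal.pow_le_pow_right n.le_succ (f n).2.2.2.2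
    convert sub_mem (sub_mem (sub_mem he (Ideal.mul_mem_right (f n).1.2.2 _ (hU n)))
      (Ideal.mul_mem_left _ U (hV n))) hφ using 1
    ring

/-- `B̂` is a quotient of `Â[[x, y]]` in which `x y` maps to an element coming from `Â`. -/
theorem exists_surjective (u v : B)
    (huv : u * v ∈ (maximalIdeal A).map (algebraMap A B))
    (hgen : maximalIdeal B = Ideal.span {u, v} ⊔ (maximalIdeal A).map (algebraMap A B))
    [Algebra Â B̂] [IsScalarTower A Â B̂] :
    ∃ α ∈ (maximalIdeal A).map (algebraMap A Â), ∃ ψ : MvPowerSeries (Fin 2) Â →ₐ[Â] B̂,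
      Function.Surjective ψ ∧
        ψ (MvPowerSeries.X 0) - algebraMap B B̂ u ∈ baseIdeal A B ∧
        ψ (MvPowerSeries.X 1) - algebraMap B B̂ v ∈ baseIdeal A B ∧
        ψ (MvPowerSeries.X 0 * MvPowerSeries.X 1 - MvPowerSeries.C α) = 0 := by
  obtain ⟨α, hα, U, V, hU, hV, hUV⟩ :=
    exists_limits hres u v huv hgen (IsScalarTower.toAlgHom A Â B̂)
  haveI : IsNoetherianRing Â := RegLoc.Completion.isNoetherianRing_adicCompletion' _
  haveI : IsNoetherianRing B̂ := RegLoc.Completion.isNoetherianRing_adicCompletion' _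
  have hmax := maximalIdeal_cpl_eq u v U V hgen hU hV
  have hb : ∀ i, (![U, V] : Fin 2 → B̂) i ∈ maximalIdeal B̂ := by
    rw [hmax]
    intro i
    fin_cases i
    · exact Ideal.mem_sup_left (Ideal.subset_span (Or.inl rfl))
    · exact Ideal.mem_sup_left (Ideal.subset_span (Or.inr rfl))
  obtain ⟨ψ, hψ⟩ := CAlg48.PSEval.exists_algHom (k := Â) (maximalIdeal B̂) ![U, V] hb
  have hψU : ψ (MvPowerSeries.X 0) = U := by simpa using hψ 0
  have hψV : ψ (MvPowerSeries.X 1) = V := by simpa using hψ 1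
  refine ⟨α, hα, ψ, ?_, by rwa [hψU], by rwa [hψV], ?_⟩
  · haveI := ArtFunLib.isAdicComplete_ps (σ := Fin 2) (C := Â)
    have hM : (maximalIdeal Â).map (algebraMap Â B̂) = baseIdeal A B := by
      rw [AdicCompletion.maximalIdeal_eq_map (R := A), Ideal.map_map, ← IsScalarTower.algebraMap_eq]
    have himg : (maximalIdeal (MvPowerSeries (Fin 2) Â)).map (ψ : MvPowerSeries (Fin 2) Â →+* B̂) =
        maximalIdeal B̂ := by
      rw [ArtFunLib.maximalIdeal_ps_eq, Ideal.map_sup, Ideal.map_map, ψ.comp_algebraMap, hM,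
        Ideal.map_span, hmax, sup_comm, ← Set.range_comp]
      congr 2
      ext x
      simp [Fin.exists_fin_two, hψU, hψV, eq_comm]
    refine PSLoc.surjective_of_cotangent (maximalIdeal (MvPowerSeries (Fin 2) Â))
      (ψ : MvPowerSeries (Fin 2) Â →+* B̂) himg.le (le_sup_left.trans' himg.ge) fun r => ?_
    obtain ⟨b, rfl⟩ := residue_surjective r
    obtain ⟨a, ha⟩ := exists_sub_mem_maximalIdeal hres b
    refine ⟨algebraMap Â _ (algebraMap A Â a), (Ideal.Quotient.eq.mpr ?_).symm⟩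
    rw [RingHom.coe_coe, AlgHom.commutes, ← IsScalarTower.algebraMap_apply]
    exact ha
  · rw [map_sub, map_mul, hψU, hψV, hUV, IsScalarTower.toAlgHom_apply, sub_eq_zero]
    exact (ψ.commutes α).symm

end Approx

end Groth.Agent.NodeCompl
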