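import Groth.Agent.NodeCompl.Basic
import Groth.Agent.AdicFS.FlatComplete
import Groth.Agent.ArtFunLib.Hull

/-!
# Reduction of `Â[[σ]]` modulo the base, and the completion of a quotient
-/

set_option autoImplicit false
set_option linter.style.haveILetI false

universe u

open IsLocalRing

namespace Groth.Agent.NodeCompl

theorem mem_map_C_of_coeff_mem {σ : Type} {C : Type u} [CommRing C] {I : Ideal C} (hI : I.FG)
    {f : MvPowerSeries σ C} (h : ∀ d, MvPowerSeries.coeff d f ∈ I) :
    f ∈ I.map (MvPowerSeries.C (σ := σ)) := by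
  classical
  obtain ⟨r, g, hg⟩ := Submodule.fg_iff_exists_fin_generating_family.mp hI
  have hg' : Ideal.span (Set.range g) = I := hg
  have hc : ∀ d, ∃ c : Fin r → C, ∑ i, c i * g i = MvPowerSeries.coeff d f := fun d =>
    Ideal.mem_span_range_iff_exists_fun.mp (hg'.symm ▸ h d)
  choose c hc using hc
  let F : Fin r → MvPowerSeries σ C := fun i d => c d i
  have hF : ∀ i d, MvPowerSeries.coeff d (F i) = c d i := fun i d => rfl
  have hf : f = ∑ i, MvPowerSeries.C (g i) * F i := by
    ext d
    rw [map_sum, ← hc d]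
    refine Finset.sum_congr rfl fun i _ => ?_
    rw [MvPowerSeries.coeff_C_mul, hF]
    exact mul_comm _ _
  rw [hf]
  exact Ideal.sum_mem _ fun i _ => Ideal.mul_mem_right _ _
    (Ideal.mem_map_of_mem _ (hg' ▸ Ideal.subset_span ⟨i, rfl⟩))

/-- A surjection onto a flat algebra that is an isomorphism modulo `I` is an isomorphism. -/
theorem bijective_of_surjective_of_fibre {A N M Q : Type u} [CommRing A] [CommRing N] [CommRing M] [CommRing Q]
    [Algebra A N] [Algebra A M] [IsNoetherianRing N] [IsLocalRing N] [Nontrivial M] [Module.Flat A M]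
    (I : Ideal A) (hI : I.map (algebraMap A M) ≠ ⊤)
    (ψ : N →ₐ[A] M) (hψ : Function.Surjective ψ)
    (g : N →+* Q) (hg : Function.Surjective g) (hker : RingHom.ker g = I.map (algebraMap A N))
    (χ : M →+* Q) (hχ : Function.Surjective χ) (hχI : ∀ z ∈ I.map (algebraMap A M), χ z = 0) :
    Function.Bijective ψ := by
  have hψJ : ∀ n ∈ I.map (algebraMap A N), ψ n ∈ I.map (algebraMap A M) := by
    intro n hn
    have h1 := Ideal.mem_map_of_mem (ψ : N →+* M) hn
    rw [Ideal.map_map, ψ.comp_algebraMap] at h1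
    exact h1
  let θ : N ⧸ I.map (algebraMap A N) →+* Q :=
    Ideal.Quotient.lift _ (χ.comp (ψ : N →+* M)) fun n hn => hχI _ (hψJ n hn)
  have hs : Function.Surjective θ := fun y => by
    obtain ⟨n, hn⟩ := (hχ.comp hψ) y
    exact ⟨Ideal.Quotient.mk _ n, hn⟩
  let ι := (Ideal.quotEquivOfEq hker.symm).trans (RingHom.quotientKerEquivOfSurjective hg)
  haveI : IsNoetherianRing (N ⧸ I.map (algebraMap A N)) :=
    isNoetherianRing_of_surjective N _ _ Ideal.Quotient.mk_surjective
  have h := ArtFunLib.injective_of_surjective_ringEnd (ι.symm.toRingHom.comp θ)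
    (show Function.Surjective (ι.symm ∘ θ) from ι.symm.surjective.comp hs)
  have hθ : Function.Injective θ := fun a b hab => h (congrArg ι.symm hab)
  have hJle : I.map (algebraMap A N) ≤ maximalIdeal N := le_maximalIdeal fun h => hI <| by
    have h1 := hψJ 1 (h ▸ Submodule.mem_top)
    rw [map_one] at h1
    exact Ideal.eq_top_of_isUnit_mem _ h1 isUnit_one
  haveI : IsHausdorff I N := IsHausdorff.map_algebraMap_iff.mp
    (IsHausdorff.of_le_jacobson (I := I.map (algebraMap A N)) (M := N)
      (hJle.trans (maximalIdeal_le_jacobson _)))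
  refine ⟨(injective_iff_map_eq_zero ψ).mpr fun n hn => ?_, hψ⟩
  refine IsHausdorff.haus (I := I) inferInstance n fun k => ?_
  rw [SModEq.zero]
  refine AdicFS.FlatComplete.mem_pow_smul_of_apply_mem (M := M) (N := N) ψ.toLinearMap ?_ ?_ k ?_
  · intro m
    obtain ⟨n, hn⟩ := hψ m
    exact ⟨n, by rw [AlgHom.toLinearMap_apply, hn, sub_self]; exact zero_mem _⟩
  · intro n hn
    rw [Ideal.smul_top_eq_map, Submodule.restrictScalars_mem] at hn ⊢
    refine Ideal.Quotient.eq_zero_iff_mem.mp (hθ ?_)
    rw [map_zero]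
    exact hχI _ hn
  · rw [AlgHom.toLinearMap_apply, hn]; exact zero_mem _

variable (A : Type u) [CommRing A] [IsLocalRing A] [IsNoetherianRing A]

local notation "Â" => AdicCompletion (maximalIdeal A) A

/-- `Â → k`. -/
noncomputable def cplResidue : Â →+* ResidueField A :=
  (AdicCompletion.evalOneₐ (maximalIdeal A)).toRingHom

theorem cplResidue_surjective : Function.Surjective (cplResidue A) :=
  AdicCompletion.evalOneₐ_surjective _

theorem ker_cplResidue : RingHom.ker (cplResidue A) = (maximalIdeal A).map (algebraMap A Â) :=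
  AdicCompletion.ker_evalOneₐ_eq_map _ (IsNoetherian.noetherian _)

theorem map_surjective {σ : Type} :
    Function.Surjective (MvPowerSeries.map (σ := σ) (cplResidue A)) := fun f => by
  refine ⟨fun d => (cplResidue_surjective A (MvPowerSeries.coeff d f)).choose, ?_⟩
  ext d
  rw [MvPowerSeries.coeff_map]
  exact (cplResidue_surjective A (MvPowerSeries.coeff d f)).choose_spec

theorem ker_map {σ : Type} :
    RingHom.ker (MvPowerSeries.map (σ := σ) (cplResidue A)) =
      (maximalIdeal A).map (algebraMap A (MvPowerSeries σ Â)) := by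
  haveI : IsNoetherianRing Â := RegLoc.Completion.isNoetherianRing_adicCompletion' _
  have e : algebraMap A (MvPowerSeries σ Â) = (MvPowerSeries.C (σ := σ)).comp (algebraMap A Â) :=
    RingHom.ext fun a => by simp [MvPowerSeries.algebraMap_apply]
  rw [e, ← Ideal.map_map]
  refine le_antisymm (fun f hf => mem_map_C_of_coeff_mem (IsNoetherian.noetherian _) fun d => ?_) ?_
  · rw [← ker_cplResidue, RingHom.mem_ker, ← MvPowerSeries.coeff_map, RingHom.mem_ker.mp hf, map_zero]
  · rw [Ideal.map_le_iff_le_comap]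
    intro x hx
    rw [Ideal.mem_comap, RingHom.mem_ker, MvPowerSeries.map_C]
    rw [← ker_cplResidue, RingHom.mem_ker] at hx
    rw [hx, map_zero]

theorem exists_cpl_surjective_of_surjective (B C : Type u) [CommRing B] [CommRing C] [IsLocalRing B]
    [IsLocalRing C] [IsNoetherianRing B] [IsNoetherianRing C] (f : B →+* C)
    (hf : Function.Surjective f) :
    ∃ χ : AdicCompletion (maximalIdeal B) B →+* AdicCompletion (maximalIdeal C) C,
      Function.Surjective χ ∧ ∀ b, χ (algebraMap B _ b) = algebraMap C _ (f b) := by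
  algebraize [f]
  haveI : IsLocalHom (algebraMap B C) := IsLocalHom.of_surjective f hf
  haveI : IsNoetherianRing (AdicCompletion (maximalIdeal C) C) :=
    RegLoc.Completion.isNoetherianRing_adicCompletion' _
  obtain ⟨_, hT, _⟩ := EGA4Lib.exists_algebra_cpl B C
  haveI := hT
  refine ⟨algebraMap _ _, ?_, fun b => (IsScalarTower.algebraMap_apply B (AdicCompletion (maximalIdeal B) B) (AdicCompletion (maximalIdeal C) C) b).symm.trans
    (IsScalarTower.algebraMap_apply B C _ b)⟩
  have hmap : (maximalIdeal (AdicCompletion (maximalIdeal B) B)).map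
      (algebraMap (AdicCompletion (maximalIdeal B) B) (AdicCompletion (maximalIdeal C) C)) =
      maximalIdeal (AdicCompletion (maximalIdeal C) C) := by
    rw [AdicCompletion.maximalIdeal_eq_map (R := B), AdicCompletion.maximalIdeal_eq_map (R := C),
      Ideal.map_map, ← IsScalarTower.algebraMap_eq,
      IsScalarTower.algebraMap_eq B C (AdicCompletion (maximalIdeal C) C), ← Ideal.map_map]
    exact congrArg _ (IsLocalRing.map_maximalIdeal_of_surjective f hf)
  refine PSLoc.surjective_of_cotangent (maximalIdeal _) _ hmap.le (le_sup_left.trans' hmap.ge) fun r => ?_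
  obtain ⟨z, rfl⟩ := residue_surjective r
  obtain ⟨c, hc⟩ := Submodule.mkQ_surjective _ (AdicCompletion.eval (maximalIdeal C) C 1 z)
  obtain ⟨b, rfl⟩ := hf c
  refine ⟨algebraMap B _ b, (Ideal.Quotient.eq.mpr ?_).symm⟩
  rw [← IsScalarTower.algebraMap_apply, IsScalarTower.algebraMap_apply B C]
  have hk : z - algebraMap C _ (f b) ∈ (maximalIdeal C ^ 1 • ⊤ : Submodule C (AdicCompletion (maximalIdeal C) C)) := by
    rw [AdicCompletion.pow_smul_top_eq_ker_eval (IsNoetherian.noetherian _), LinearMap.mem_ker,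
      map_sub, sub_eq_zero, ← hc]
    rfl
  rw [Ideal.smul_top_eq_map, Submodule.restrictScalars_mem, pow_one,
    ← AdicCompletion.maximalIdeal_eq_map] at hk
  exact hk

/-- A ring isomorphic to the completion of a quotient of `B` by an ideal containing `𝔞` is a quotient
of the completion of `B` killing `𝔞`. -/
theorem exists_quot_cpl {A₀ B C Q : Type u} [CommRing A₀] [CommRing B] [CommRing C] [CommRing Q]
    [IsLocalRing B] [IsLocalRing C] [IsNoetherianRing B] [IsNoetherianRing C] [Algebra A₀ B]
    (f : B →+* C) (hf : Function.Surjective f) (𝔞 : Ideal A₀) (h𝔞 : ∀ a ∈ 𝔞, f (algebraMap A₀ B a) = 0)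
    (J : Ideal C) (hJ : J = maximalIdeal C) (e : AdicCompletion J C ≃+* Q) :
    ∃ χ : AdicCompletion (maximalIdeal B) B →+* Q, Function.Surjective χ ∧
      ∀ z ∈ 𝔞.map (algebraMap A₀ (AdicCompletion (maximalIdeal B) B)), χ z = 0 := by
  subst hJ
  obtain ⟨χ, hχ, hχc⟩ := exists_cpl_surjective_of_surjective B C f hf
  refine ⟨e.toRingHom.comp χ, e.surjective.comp hχ, fun z hz => ?_⟩
  refine RingHom.mem_ker.mp ((Ideal.map_le_iff_le_comap.mpr fun a ha => ?_) hz)
  rw [Ideal.mem_comap, RingHom.mem_ker, IsScalarTower.algebraMap_apply A₀ B, RingHom.comp_apply, hχc,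
    h𝔞 a ha, map_zero, map_zero]

end Groth.Agent.NodeCompl
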